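import Cfsg.Agent.Lib.KnownSimple.Leech.Top
import Cfsg.Agent.Lib.KnownSimple.Leech.HS.Data

/-!
# The Higman–Sims group acting on 100 vectors of the lattice
-/

set_option autoImplicit false

namespace Cfsg.Agent.Lib.KnownSimple.Leech.HS

open Cfsg Cfsg.Spor Cfsg.Agent.Lib.Compute Cfsg.Agent.Lib.Golay Cfsg.Agent.Lib.KnownSimple.PE
open Cfsg.Agent.Lib.KnownSimple.Leech Cfsg.Agent.Lib.KnownSimple.Leech.HSData

/-- The number of points. -/
abbrev N : ℕ := 100

/-- The table of vectors. -/
noncomputable def tab (i : ℕ) : ℕ := pget 120 1329227995784915872903807060280344575 vtbl i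
/-- The table of first factors. -/
noncomputable def tP (i : ℕ) : ℕ := pget 360 2348542582773833227889480596789337027375682548908319870707290971532209025114608443463698998384768703031934975 vP i
/-- The table of second factors. -/
noncomputable def tQ (i : ℕ) : ℕ := pget 360 2348542582773833227889480596789337027375682548908319870707290971532209025114608443463698998384768703031934975 vQ i
/-- The table of sums. -/
noncomputable def tT (i : ℕ) : ℕ := pget 10 1023 vT i

/-- The tests. -/
noncomputable def tests : List (List (ℕ × ℤ) × ℤ) := [(rowU', 0), (rowV, -24)]

/-- The test on vectors. -/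
noncomputable def Pc : (ℕ → ℤ) → Bool := classP tab N tests

theorem hA : allA Pc = true := by decide +kernel

set_option maxRecDepth 100000 in
theorem hB0 : chunk (gB Pc) 64 0 = true := by decide +kernel
set_option maxRecDepth 100000 in
theorem hB1 : chunk (gB Pc) 64 1 = true := by decide +kernel
set_option maxRecDepth 100000 in
theorem hB2 : chunk (gB Pc) 64 2 = true := by decide +kernel
set_option maxRecDepth 100000 in
theorem hB3 : chunk (gB Pc) 64 3 = true := by decide +kernel
set_option maxRecDepth 100000 in
theorem hB4 : chunk (gB Pc) 64 4 = true := by decide +kernel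
set_option maxRecDepth 100000 in
theorem hB5 : chunk (gB Pc) 64 5 = true := by decide +kernel
set_option maxRecDepth 100000 in
theorem hB6 : chunk (gB Pc) 64 6 = true := by decide +kernel
set_option maxRecDepth 100000 in
theorem hB7 : chunk (gB Pc) 64 7 = true := by decide +kernel
set_option maxRecDepth 100000 in
theorem hB8 : chunk (gB Pc) 64 8 = true := by decide +kernel
set_option maxRecDepth 100000 in
theorem hB9 : chunk (gB Pc) 64 9 = true := by decide +kernel
set_option maxRecDepth 100000 in
theorem hB10 : chunk (gB Pc) 64 10 = true := by decide +kernel
set_option maxRecDepth 100000 in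
theorem hB11 : chunk (gB Pc) 64 11 = true := by decide +kernel
set_option maxRecDepth 100000 in
theorem hB12 : chunk (gB Pc) 64 12 = true := by decide +kernel
set_option maxRecDepth 100000 in
theorem hB13 : chunk (gB Pc) 64 13 = true := by decide +kernel
set_option maxRecDepth 100000 in
theorem hB14 : chunk (gB Pc) 64 14 = true := by decide +kernel
set_option maxRecDepth 100000 in
theorem hB15 : chunk (gB Pc) 64 15 = true := by decide +kernel
set_option maxRecDepth 100000 in
theorem hB16 : chunk (gB Pc) 64 16 = true := by decide +kernel
set_option maxRecDepth 100000 in
theorem hB17 : chunk (gB Pc) 64 17 = true := by decide +kernel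
set_option maxRecDepth 100000 in
theorem hB18 : chunk (gB Pc) 64 18 = true := by decide +kernel
set_option maxRecDepth 100000 in
theorem hB19 : chunk (gB Pc) 64 19 = true := by decide +kernel
set_option maxRecDepth 100000 in
theorem hB20 : chunk (gB Pc) 64 20 = true := by decide +kernel
set_option maxRecDepth 100000 in
theorem hB21 : chunk (gB Pc) 64 21 = true := by decide +kernel
set_option maxRecDepth 100000 in
theorem hB22 : chunk (gB Pc) 64 22 = true := by decide +kernel
set_option maxRecDepth 100000 in
theorem hB23 : chunk (gB Pc) 64 23 = true := by decide +kernel
set_option maxRecDepth 100000 in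
theorem hB24 : chunk (gB Pc) 64 24 = true := by decide +kernel
set_option maxRecDepth 100000 in
theorem hB25 : chunk (gB Pc) 64 25 = true := by decide +kernel
set_option maxRecDepth 100000 in
theorem hB26 : chunk (gB Pc) 64 26 = true := by decide +kernel
set_option maxRecDepth 100000 in
theorem hB27 : chunk (gB Pc) 64 27 = true := by decide +kernel
set_option maxRecDepth 100000 in
theorem hB28 : chunk (gB Pc) 64 28 = true := by decide +kernel
set_option maxRecDepth 100000 in
theorem hB29 : chunk (gB Pc) 64 29 = true := by decide +kernel
set_option maxRecDepth 100000 in
theorem hB30 : chunk (gB Pc) 64 30 = true := by decide +kernel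
set_option maxRecDepth 100000 in
theorem hB31 : chunk (gB Pc) 64 31 = true := by decide +kernel
set_option maxRecDepth 100000 in
theorem hB32 : chunk (gB Pc) 64 32 = true := by decide +kernel
set_option maxRecDepth 100000 in
theorem hB33 : chunk (gB Pc) 64 33 = true := by decide +kernel
set_option maxRecDepth 100000 in
theorem hB34 : chunk (gB Pc) 64 34 = true := by decide +kernel
set_option maxRecDepth 100000 in
theorem hB35 : chunk (gB Pc) 64 35 = true := by decide +kernel
set_option maxRecDepth 100000 in
theorem hB36 : chunk (gB Pc) 64 36 = true := by decide +kernel
set_option maxRecDepth 100000 in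
theorem hB37 : chunk (gB Pc) 64 37 = true := by decide +kernel
set_option maxRecDepth 100000 in
theorem hB38 : chunk (gB Pc) 64 38 = true := by decide +kernel
set_option maxRecDepth 100000 in
theorem hB39 : chunk (gB Pc) 64 39 = true := by decide +kernel
set_option maxRecDepth 100000 in
theorem hB40 : chunk (gB Pc) 64 40 = true := by decide +kernel
set_option maxRecDepth 100000 in
theorem hB41 : chunk (gB Pc) 64 41 = true := by decide +kernel
set_option maxRecDepth 100000 in
theorem hB42 : chunk (gB Pc) 64 42 = true := by decide +kernel
set_option maxRecDepth 100000 in
theorem hB43 : chunk (gB Pc) 64 43 = true := by decide +kernel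
set_option maxRecDepth 100000 in
theorem hB44 : chunk (gB Pc) 64 44 = true := by decide +kernel
set_option maxRecDepth 100000 in
theorem hB45 : chunk (gB Pc) 64 45 = true := by decide +kernel
set_option maxRecDepth 100000 in
theorem hB46 : chunk (gB Pc) 64 46 = true := by decide +kernel
set_option maxRecDepth 100000 in
theorem hB47 : chunk (gB Pc) 64 47 = true := by decide +kernel
set_option maxRecDepth 100000 in
theorem hB48 : chunk (gB Pc) 64 48 = true := by decide +kernel
set_option maxRecDepth 100000 in
theorem hB49 : chunk (gB Pc) 64 49 = true := by decide +kernel
set_option maxRecDepth 100000 in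
theorem hB50 : chunk (gB Pc) 64 50 = true := by decide +kernel
set_option maxRecDepth 100000 in
theorem hB51 : chunk (gB Pc) 64 51 = true := by decide +kernel
set_option maxRecDepth 100000 in
theorem hB52 : chunk (gB Pc) 64 52 = true := by decide +kernel
set_option maxRecDepth 100000 in
theorem hB53 : chunk (gB Pc) 64 53 = true := by decide +kernel
set_option maxRecDepth 100000 in
theorem hB54 : chunk (gB Pc) 64 54 = true := by decide +kernel
set_option maxRecDepth 100000 in
theorem hB55 : chunk (gB Pc) 64 55 = true := by decide +kernel
set_option maxRecDepth 100000 in
theorem hB56 : chunk (gB Pc) 64 56 = true := by decide +kernel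
set_option maxRecDepth 100000 in
theorem hB57 : chunk (gB Pc) 64 57 = true := by decide +kernel
set_option maxRecDepth 100000 in
theorem hB58 : chunk (gB Pc) 64 58 = true := by decide +kernel
set_option maxRecDepth 100000 in
theorem hB59 : chunk (gB Pc) 64 59 = true := by decide +kernel
set_option maxRecDepth 100000 in
theorem hB60 : chunk (gB Pc) 64 60 = true := by decide +kernel
set_option maxRecDepth 100000 in
theorem hB61 : chunk (gB Pc) 64 61 = true := by decide +kernel
set_option maxRecDepth 100000 in
theorem hB62 : chunk (gB Pc) 64 62 = true := by decide +kernel
set_option maxRecDepth 100000 in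
theorem hB63 : chunk (gB Pc) 64 63 = true := by decide +kernel
set_option maxRecDepth 100000 in
theorem hC0 : chunk (gC Pc) 256 0 = true := by decide +kernel
set_option maxRecDepth 100000 in
theorem hC1 : chunk (gC Pc) 256 1 = true := by decide +kernel
set_option maxRecDepth 100000 in
theorem hC2 : chunk (gC Pc) 256 2 = true := by decide +kernel
set_option maxRecDepth 100000 in
theorem hC3 : chunk (gC Pc) 256 3 = true := by decide +kernel
set_option maxRecDepth 100000 in
theorem hC4 : chunk (gC Pc) 256 4 = true := by decide +kernel
set_option maxRecDepth 100000 in
theorem hC5 : chunk (gC Pc) 256 5 = true := by decide +kernel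
set_option maxRecDepth 100000 in
theorem hC6 : chunk (gC Pc) 256 6 = true := by decide +kernel
set_option maxRecDepth 100000 in
theorem hC7 : chunk (gC Pc) 256 7 = true := by decide +kernel
set_option maxRecDepth 100000 in
theorem hC8 : chunk (gC Pc) 256 8 = true := by decide +kernel
set_option maxRecDepth 100000 in
theorem hC9 : chunk (gC Pc) 256 9 = true := by decide +kernel
set_option maxRecDepth 100000 in
theorem hC10 : chunk (gC Pc) 256 10 = true := by decide +kernel
set_option maxRecDepth 100000 in
theorem hC11 : chunk (gC Pc) 256 11 = true := by decide +kernel
set_option maxRecDepth 100000 in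
theorem hC12 : chunk (gC Pc) 256 12 = true := by decide +kernel
set_option maxRecDepth 100000 in
theorem hC13 : chunk (gC Pc) 256 13 = true := by decide +kernel
set_option maxRecDepth 100000 in
theorem hC14 : chunk (gC Pc) 256 14 = true := by decide +kernel
set_option maxRecDepth 100000 in
theorem hC15 : chunk (gC Pc) 256 15 = true := by decide +kernel

theorem hB : allB Pc = true := by
  have h : allBelow (gB Pc) (64 * 64) = true := allBelow_of_chunks (fun c hc => by
    interval_cases c
    · exact hB0
    · exact hB1
    · exact hB2
    · exact hB3
    · exact hB4
    · exact hB5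
    · exact hB6
    · exact hB7
    · exact hB8
    · exact hB9
    · exact hB10
    · exact hB11
    · exact hB12
    · exact hB13
    · exact hB14
    · exact hB15
    · exact hB16
    · exact hB17
    · exact hB18
    · exact hB19
    · exact hB20
    · exact hB21
    · exact hB22
    · exact hB23
    · exact hB24
    · exact hB25
    · exact hB26
    · exact hB27
    · exact hB28
    · exact hB29
    · exact hB30
    · exact hB31
    · exact hB32
    · exact hB33
    · exact hB34
    · exact hB35
    · exact hB36
    · exact hB37
    · exact hB38
    · exact hB39
    · exact hB40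
    · exact hB41
    · exact hB42
    · exact hB43
    · exact hB44
    · exact hB45
    · exact hB46
    · exact hB47
    · exact hB48
    · exact hB49
    · exact hB50
    · exact hB51
    · exact hB52
    · exact hB53
    · exact hB54
    · exact hB55
    · exact hB56
    · exact hB57
    · exact hB58
    · exact hB59
    · exact hB60
    · exact hB61
    · exact hB62
    · exact hB63)
  exact h

theorem hC : allC Pc = true := by
  have h : allBelow (gC Pc) (16 * 256) = true := allBelow_of_chunks (fun c hc => by
    interval_cases c
    · exact hC0
    · exact hC1
    · exact hC2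
    · exact hC3
    · exact hC4
    · exact hC5
    · exact hC6
    · exact hC7
    · exact hC8
    · exact hC9
    · exact hC10
    · exact hC11
    · exact hC12
    · exact hC13
    · exact hC14
    · exact hC15)
  exact h

/-- The representation. -/
noncomputable def R : LRep Spor.HS N where
  tab := tab
  tests := tests
  hG := fun _ hg => hg.1.1
  hfix := fun t ht => by
    simp only [tests, List.mem_cons, List.not_mem_nil, or_false] at ht
    rcases ht with rfl | rfl
    · exact ⟨leechU', fun g hg => hg.2, rowU'_pt⟩
    · exact ⟨leechV, fun g hg => hg.1.2, rowV_pt⟩
  hcols := by decide +kernel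
  hmem := by decide +kernel
  hnorm := by decide +kernel
  hinj := by decide +kernel
  hA := hA
  hB := hB
  hC := hC

end Cfsg.Agent.Lib.KnownSimple.Leech.HS
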